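import Cfsg.Agent.CoOneUniq.Enum.Letters
import Cfsg.Agent.CoOneUniq.Enum.Table

/-!
# The table of the monomial group against the letters (part 3)
-/

set_option autoImplicit false
set_option maxRecDepth 100000
set_option Elab.async false

open Cfsg.Agent.DCoset Cfsg.Agent.CosetCert

namespace Cfsg.Agent.CoOneUniq.Enum

theorem act_9 : actOKRow tab (lets 9) 9 = true := by
  decide +kernel

theorem act_10 : actOKRow tab (lets 10) 10 = true := by
  decide +kernel

end Cfsg.Agent.CoOneUniq.Enum
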