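import Cfsg.Agent.CoOneUniq.ThetaOf
import Cfsg.Agent.CoOneUniq.Enum.Letters
import Cfsg.Agent.CoOneUniq.Enum.RuleData
import Cfsg.Agent.CoOneUniq.Enum.Table

/-!
# The rules and relators of the certificate in the model
-/

set_option autoImplicit false
set_option maxRecDepth 100000
set_option Elab.async false

open Cfsg Cfsg.Agent.DCoset Cfsg.Agent.CosetCert

namespace Cfsg.Agent.CoOneUniq

theorem allLt_of {f : ℕ → Bool} : ∀ {n : ℕ}, (∀ i, i < n → f i = true) → allLt n f = true
  | 0, _ => rfl
  | n + 1, h => by
    simp only [allLt, Bool.and_eq_true]
    exact ⟨h n n.lt_succ_self, allLt_of fun i hi => h i (hi.trans n.lt_succ_self)⟩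

namespace Enum

theorem inv_ok : allLt 2 (fun τ =>
    Nat.blt (rules.invT τ) 2 && sameB (fcomp (tG τ) (tG (rules.invT τ))) idG) = true := by
  decide +kernel

theorem mul_ok : allLt 2 (fun σ => allLt 2 fun τ => Nat.beq (rules.mulT σ τ) 0 ||
    (Nat.blt (rules.mulT σ τ - 1) 2 &&
      sameB (fcomp (tG σ) (tG τ)) (tG (rules.mulT σ τ - 1)))) = true := by
  decide +kernel

theorem rule_0 : ruleB tab lets rules 0 = true := by decide +kernel

theorem rule_1 : ruleB tab lets rules 1 = true := by decide +kernel

theorem rule_2 : ruleB tab lets rules 2 = true := by decide +kernel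

theorem rule_3 : ruleB tab lets rules 3 = true := by decide +kernel

theorem rule_4 : ruleB tab lets rules 4 = true := by decide +kernel

theorem rule_5 : ruleB tab lets rules 5 = true := by decide +kernel

theorem rule_6 : ruleB tab lets rules 6 = true := by decide +kernel

theorem rule_7 : ruleB tab lets rules 7 = true := by decide +kernel

theorem rule_8 : ruleB tab lets rules 8 = true := by decide +kernel

theorem rule_9 : ruleB tab lets rules 9 = true := by decide +kernel

theorem rule_10 : ruleB tab lets rules 10 = true := by decide +kernel

theorem rule_11 : ruleB tab lets rules 11 = true := by decide +kernel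

theorem rule_12 : ruleB tab lets rules 12 = true := by decide +kernel

theorem rule_13 : ruleB tab lets rules 13 = true := by decide +kernel

theorem rule_14 : ruleB tab lets rules 14 = true := by decide +kernel

theorem rule_15 : ruleB tab lets rules 15 = true := by decide +kernel

theorem rule_16 : ruleB tab lets rules 16 = true := by decide +kernel

theorem rule_17 : ruleB tab lets rules 17 = true := by decide +kernel

theorem rule_18 : ruleB tab lets rules 18 = true := by decide +kernel

theorem rule_19 : ruleB tab lets rules 19 = true := by decide +kernel

theorem rel_0 : relB tab lets rules 0 = true := by decide +kernel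

theorem rel_1 : relB tab lets rules 1 = true := by decide +kernel

theorem rel_2 : relB tab lets rules 2 = true := by decide +kernel

theorem rel_3 : relB tab lets rules 3 = true := by decide +kernel

theorem rel_4 : relB tab lets rules 4 = true := by decide +kernel

theorem rel_5 : relB tab lets rules 5 = true := by decide +kernel

theorem rules_ok : rulesB tab lets rules = true := by
  simp only [rulesB, Bool.and_eq_true]
  refine ⟨⟨⟨⟨rfl, inv_ok⟩, mul_ok⟩, allLt_of fun r hr => ?_⟩, allLt_of fun r hr => ?_⟩
  · change r < 20 at hr
    interval_cases r
    · exact rule_0
    · exact rule_1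
    · exact rule_2
    · exact rule_3
    · exact rule_4
    · exact rule_5
    · exact rule_6
    · exact rule_7
    · exact rule_8
    · exact rule_9
    · exact rule_10
    · exact rule_11
    · exact rule_12
    · exact rule_13
    · exact rule_14
    · exact rule_15
    · exact rule_16
    · exact rule_17
    · exact rule_18
    · exact rule_19
  · change r < 6 at hr
    interval_cases r
    · exact rel_0
    · exact rel_1
    · exact rel_2
    · exact rel_3
    · exact rel_4
    · exact rel_5

end Enum

end Cfsg.Agent.CoOneUniq
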